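import Cfsg.Agent.Lib.Fusion.Basic

/-!
A minimal offender generating with each outside conjugate: it meets no other point stabiliser.
-/

set_option autoImplicit false
set_option linter.unusedSectionVars false
set_option linter.style.haveILetI false

namespace CfsgLib.LocalEven.MinOffender

open CfsgLib.Fusion (conjSub mem_conjSub conj_mem_conjSub conjSub_conjSub conjSub_one conjSub_mono card_conjSub)

variable {Γ : Type*} [Group Γ] [Finite Γ] {M : Type*} [AddCommGroup M] [DistribMulAction Γ M] [Finite M]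

/-- The points fixed by `H`. -/
def fx (M : Type*) [AddCommGroup M] [DistribMulAction Γ M] (H : Subgroup Γ) : AddSubgroup M where
  carrier := {m | ∀ h ∈ H, h • m = m}
  add_mem' := fun {a b} ha hb h hh => by rw [smul_add, ha h hh, hb h hh]
  zero_mem' := fun h _ => smul_zero h
  neg_mem' := fun {a} ha h hh => by rw [smul_neg, ha h hh]

theorem fx_anti {H K : Subgroup Γ} (h : H ≤ K) : fx M K ≤ fx M H := fun _ hm g hg => hm g (h hg)

theorem mem_fx_conj {g : Γ} {H : Subgroup Γ} {m : M} : m ∈ fx M (conjSub g H) ↔ g⁻¹ • m ∈ fx M H := by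
  constructor
  · intro hm h hh
    have h1 := hm _ (conj_mem_conjSub (g := g) hh)
    show h • g⁻¹ • m = g⁻¹ • m
    rw [← mul_smul, show h * g⁻¹ = g⁻¹ * (g * h * g⁻¹) by group, mul_smul, h1]
  · intro hm h hh
    have h1 := hm _ (mem_conjSub.1 hh)
    rw [← mul_smul, show g⁻¹ * h * g * g⁻¹ = g⁻¹ * h by group, mul_smul] at h1
    exact smul_left_cancel g⁻¹ h1

theorem smul_mem_fx_conj {g : Γ} {H : Subgroup Γ} {m : M} (hm : m ∈ fx M H) : g • m ∈ fx M (conjSub g H) := by
  rw [mem_fx_conj, inv_smul_smul]; exact hm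

theorem card_fx_conj (g : Γ) (H : Subgroup Γ) : Nat.card ↥(fx M (conjSub g H)) = Nat.card ↥(fx M H) :=
  Nat.card_congr
    { toFun := fun m => ⟨g⁻¹ • (m : M), mem_fx_conj.1 m.2⟩
      invFun := fun m => ⟨g • (m : M), smul_mem_fx_conj m.2⟩
      left_inv := fun m => Subtype.ext (smul_inv_smul g (m : M))
      right_inv := fun m => Subtype.ext (inv_smul_smul g (m : M)) }

/-- The setting. -/
structure Hyp (p : ℕ) (A : Subgroup Γ) (T : Sylow p Γ) (Mx : Subgroup Γ) (M : Type*) [AddCommGroup M]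
    [DistribMulAction Γ M] : Prop where
  prime : p.Prime
  exp : ∀ m : M, p • m = 0
  faithful : ∀ g : Γ, (∀ m : M, g • m = m) → g = 1
  sylLe : (T : Subgroup Γ) ≤ Mx
  proper : Mx ≠ ⊤
  uniq : ∀ H : Subgroup Γ, (T : Subgroup Γ) ≤ H → H ≠ ⊤ → H ≤ Mx
  aLe : A ≤ (T : Subgroup Γ)
  aComm : ∀ a ∈ A, ∀ b ∈ A, a * b = b * a
  off : Nat.card M ≤ Nat.card ↥A * Nat.card ↥(fx M A)
  strict : ∀ A₀ : Subgroup Γ, A₀ ≤ A → A₀ ≠ ⊥ → A₀ ≠ A →
    Nat.card ↥A₀ * Nat.card ↥(fx M A₀) < Nat.card ↥A * Nat.card ↥(fx M A)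
  moved : ∃ v ∈ fx M (T : Subgroup Γ), v ∉ fx M (⊤ : Subgroup Γ)
  gen : ∀ x ∉ Mx, A ⊔ conjSub x A = ⊤

theorem pair_le {X Y Z : AddSubgroup M} (hXY : ∀ m ∈ X, m ∈ Y → m ∈ Z) {W : AddSubgroup M}
    (hX : X ≤ W) (hY : Y ≤ W) :
    Nat.card ↥X * Nat.card ↥Y ≤ Nat.card ↥W * Nat.card ↥(Z) := by
  let φ : ↥X × ↥Y →+ ↥W :=
    { toFun := fun z => ⟨(z.1 : M) + z.2, add_mem (hX z.1.2) (hY z.2.2)⟩
      map_zero' := Subtype.ext (add_zero 0)
      map_add' := fun a b => Subtype.ext (by simp only [Prod.fst_add, Prod.snd_add, AddSubgroup.coe_add]; abel) }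
  have hk : ∀ z : ↥φ.ker, (z.1.1 : M) = -(z.1.2 : M) := fun z => by
    have := congrArg Subtype.val z.2
    exact eq_neg_of_add_eq_zero_left this
  have hkle : Nat.card ↥φ.ker ≤ Nat.card ↥(Z) :=
    Nat.card_le_card_of_injective
      (fun z => (⟨(z.1.1 : M), hXY _ z.1.1.2 (hk z ▸ neg_mem z.1.2.2)⟩ : ↥(Z)))
      (fun z z' e => by
        have e1 : (z.1.1 : M) = z'.1.1 := congrArg (fun q : ↥(Z) => (q : M)) e
        have e2 : (z.1.2 : M) = z'.1.2 := by
          rw [← neg_neg (z.1.2 : M), ← hk z, e1, hk z', neg_neg]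
        exact Subtype.ext (Prod.ext (Subtype.ext e1) (Subtype.ext e2)))
  rw [← Nat.card_prod, AddSubgroup.card_eq_card_quotient_mul_card_addSubgroup φ.ker,
    Nat.card_congr (QuotientAddGroup.quotientKerEquivRange φ).toEquiv]
  exact Nat.mul_le_mul (Nat.card_le_card_of_injective Subtype.val Subtype.val_injective) hkle

/-- An offender that is minimal below itself acts quadratically. -/
theorem quad_of_strict {A : Subgroup Γ} {p : ℕ} [Fact p.Prime] (hexp : ∀ m : M, p • m = 0) (hA : IsPGroup p ↥A)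
    (haComm : ∀ a ∈ A, ∀ b ∈ A, a * b = b * a) (hoff : Nat.card M ≤ Nat.card ↥A * Nat.card ↥(fx M A))
    (hstrict : ∀ A₀ : Subgroup Γ, A₀ ≤ A → A₀ ≠ ⊥ → A₀ ≠ A →
      Nat.card ↥A₀ * Nat.card ↥(fx M A₀) < Nat.card ↥A * Nat.card ↥(fx M A))
    {a b : Γ} (ha : a ∈ A) (hb : b ∈ A) (v : M) : a • (b • v - v) = b • v - v := by
  classical
  by_contra hne
  have hswap : ∀ (x y : Γ), x ∈ A → y ∈ A → ∀ m : M, x • y • m = y • x • m := fun x y hx hy m => by
    rw [← mul_smul, haComm x hx y hy, mul_smul]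
  let B : Subgroup Γ :=
    { carrier := {c | c ∈ A ∧ ∀ d ∈ A, c • (d • v - v) = d • v - v}
      one_mem' := ⟨one_mem A, fun d _ => one_smul Γ _⟩
      mul_mem' := fun {x y} hx hy => ⟨mul_mem hx.1 hy.1, fun d hd => by rw [mul_smul, hy.2 d hd, hx.2 d hd]⟩
      inv_mem' := fun {x} hx => ⟨inv_mem hx.1, fun d hd => by rw [inv_smul_eq_iff, hx.2 d hd]⟩ }
  set X := fx M A with hX
  -- the classes of the commutators modulo the fixed points
  let f : ↥A → M ⧸ X := fun d => QuotientAddGroup.mk ((d : Γ) • v - v)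
  have hker : ∀ d d' : ↥A, f d = f d' → ((d : Γ)⁻¹ * d' : Γ) ∈ B := by
    intro d d' e
    have h1 : -((d : Γ) • v - v) + ((d' : Γ) • v - v) ∈ X := QuotientAddGroup.eq.1 e
    refine ⟨mul_mem (inv_mem d.2) d'.2, fun c hc => ?_⟩
    have h2 : ((d : Γ)⁻¹ * d') • v - v ∈ X := by
      have h3 : (d : Γ)⁻¹ • (-((d : Γ) • v - v) + ((d' : Γ) • v - v)) ∈ X := fun x hx => by
        rw [hswap x (d : Γ)⁻¹ hx (inv_mem d.2), h1 x hx]
      convert h3 using 1
      rw [smul_add, smul_neg, smul_sub, smul_sub, inv_smul_smul, ← mul_smul]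
      abel
    have h4 := h2 c hc
    rw [smul_sub, hswap c _ hc (mul_mem (inv_mem d.2) d'.2)] at h4
    rw [smul_sub]
    calc ((d : Γ)⁻¹ * d') • c • v - ((d : Γ)⁻¹ * d') • v
        = (((d : Γ)⁻¹ * d') • c • v - c • v) + (c • v - ((d : Γ)⁻¹ * d') • v) := by abel
      _ = (((d : Γ)⁻¹ * d') • v - v) + (c • v - ((d : Γ)⁻¹ * d') • v) := by rw [h4]
      _ = c • v - v := by abel
  have hXB : X ≤ fx M B := fun m hm c hc => hm c hc.1
  have hfB : ∀ d : ↥A, (d : Γ) • v - v ∈ fx M B := fun d c hc => hc.2 d d.2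
  -- so the fixed points of `B` are numerous
  let π := QuotientAddGroup.mk' X
  have hrange : Nat.card ↥A * Nat.card ↥X ≤ Nat.card ↥B * Nat.card ↥(fx M B) := by
    let e : ↥A → ↥B × ↥((fx M B).map π) := fun d =>
      let w := Classical.epsilon fun d₀ : ↥A => f d₀ = f d
      (⟨(w : Γ)⁻¹ * d, hker w d (Classical.epsilon_spec (p := fun d₀ : ↥A => f d₀ = f d) ⟨d, rfl⟩)⟩,
        ⟨f d, ⟨_, hfB d, rfl⟩⟩)
    have he : Function.Injective e := by
      intro d d' hdd
      have h1 : f d = f d' := congrArg (fun z => ((z.2 : ↥((fx M B).map π)) : M ⧸ X)) hdd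
      have h2 := congrArg (fun z => ((z.1 : ↥B) : Γ)) hdd
      simp only [e, h1] at h2
      exact Subtype.ext (mul_left_cancel h2)
    have hc := Nat.card_le_card_of_injective e he
    rw [Nat.card_prod] at hc
    have hq : Nat.card ↥((fx M B).map π) * Nat.card ↥X = Nat.card ↥(fx M B) := by
      let π' : ↥(fx M B) →+ ↥((fx M B).map π) := π.addSubgroupMap (fx M B)
      have hs : Function.Surjective π' := π.addSubgroupMap_surjective _
      have hk : π'.ker = X.addSubgroupOf (fx M B) := by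
        ext z
        rw [AddMonoidHom.mem_ker, AddSubgroup.mem_addSubgroupOf, ← Subtype.val_inj]
        exact QuotientAddGroup.eq_zero_iff _
      rw [AddSubgroup.card_eq_card_quotient_mul_card_addSubgroup π'.ker,
        Nat.card_congr (QuotientAddGroup.quotientKerEquivOfSurjective π' hs).toEquiv, hk,
        Nat.card_congr (AddSubgroup.addSubgroupOfEquivOfLe hXB).toEquiv]
    calc Nat.card ↥A * Nat.card ↥X ≤ Nat.card ↥B * Nat.card ↥((fx M B).map π) * Nat.card ↥X :=
          Nat.mul_le_mul_right _ hc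
      _ = Nat.card ↥B * Nat.card ↥(fx M B) := by rw [mul_assoc, hq]
  by_cases hB1 : B = ⊥
  · -- then `v` is fixed after all
    have hinj : Function.Injective f := fun d d' e => by
      have h1 := hker d d' e
      rw [hB1, Subgroup.mem_bot] at h1
      exact Subtype.ext (inv_mul_eq_one.1 h1)
    have hcard : Nat.card (M ⧸ X) ≤ Nat.card ↥A := by
      have h1 := AddSubgroup.card_eq_card_quotient_mul_card_addSubgroup X
      have h2 := hoff
      rw [h1] at h2
      exact Nat.le_of_mul_le_mul_right h2 Nat.card_pos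
    have hsurj : Function.Surjective f :=
      (Nat.bijective_iff_injective_and_card f).2
        ⟨hinj, le_antisymm (Nat.card_le_card_of_injective f hinj) hcard⟩ |>.2
    obtain ⟨d, hd⟩ := hsurj (QuotientAddGroup.mk v)
    have hw : -((d : Γ) • v - v) + v ∈ X := QuotientAddGroup.eq.1 hd
    -- `(d - 2) v` is fixed, and `d - 1` is nilpotent
    let N : M →+ M := DistribSMul.toAddMonoidHom M (d : Γ) - AddMonoidHom.id M
    have hN : ∀ m, N m = (d : Γ) • m - m := fun m => rfl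
    have hNX : ∀ m ∈ X, N m = 0 := fun m hm => by rw [hN, hm _ d.2, sub_self]
    have h1 : N (N v) = N v := by
      have h2 := hNX _ hw
      rw [map_add, map_neg, ← hN v] at h2
      exact neg_add_eq_zero.1 h2
    obtain ⟨k, hk⟩ : ∃ k, (d : Γ) ^ p ^ k = 1 := by
      obtain ⟨k, hk⟩ := hA d
      exact ⟨k, congrArg Subtype.val hk⟩
    have h2 : ∀ j, (d : Γ) ^ j • v = v + (2 ^ j - 1 : ℤ) • N v := by
      intro j
      induction j with
      | zero => simp
      | succ j ih =>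
        rw [pow_succ', mul_smul, ih, smul_add, smul_comm (d : Γ) (2 ^ j - 1 : ℤ) (N v),
          show (d : Γ) • N v = N v + N v from sub_eq_iff_eq_add.1 h1,
          show (d : Γ) • v = v + N v by rw [hN, add_sub_cancel]]
        simp only [pow_succ, sub_smul, mul_smul, one_smul, two_smul, smul_add]
        abel
    have h3 := h2 (p ^ k)
    rw [hk, one_smul, left_eq_add] at h3
    have hNv : N v = 0 := by
      have hdiv : (p : ℤ) ∣ (2 ^ p ^ k - 1) - 1 := by
        rw [← ZMod.intCast_zmod_eq_zero_iff_dvd]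
        push_cast
        rw [ZMod.pow_card_pow]
        norm_num
      obtain ⟨c, hc⟩ := hdiv
      have hp0 : ∀ z : ℤ, (z * p) • N v = 0 := fun z => by rw [mul_smul, natCast_zsmul, hexp, smul_zero]
      rw [show (2 ^ p ^ k - 1 : ℤ) = c * p + 1 by linarith, add_smul, hp0, zero_add, one_smul] at h3
      exact h3
    apply hne
    rw [← hN, hNv, neg_zero, zero_add] at hw
    rw [hw b hb, sub_self, smul_zero]
  · by_cases hBA : B = A
    · exact hne ((hBA.ge ha).2 b hb)
    · exact absurd hrange (not_le.2 (hstrict B (fun c hc => hc.1) hB1 hBA))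

variable {p : ℕ} [Fact p.Prime] {A : Subgroup Γ} {T : Sylow p Γ} {Mx : Subgroup Γ}

namespace Hyp

variable (h : Hyp p A T Mx M)
include h

theorem aLeMx : A ≤ Mx := h.aLe.trans h.sylLe

/-- The offender acts quadratically. -/
theorem quad {a b : Γ} (ha : a ∈ A) (hb : b ∈ A) (v : M) : a • (b • v - v) = b • v - v :=
  quad_of_strict h.exp (T.2.to_le h.aLe) h.aComm h.off h.strict ha hb v

theorem not_top {x : Γ} : conjSub x Mx ≠ ⊤ := fun e => h.proper (by
  rw [← conjSub_one Mx, ← inv_mul_cancel x, ← conjSub_conjSub, e]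
  exact Subgroup.map_top_of_surjective _ (MulAut.conj x⁻¹).surjective)

theorem uniq_conj {x : Γ} {H : Subgroup Γ} (hT : conjSub x (T : Subgroup Γ) ≤ H) (hH : H ≠ ⊤) :
    H ≤ conjSub x Mx := by
  have h1 : (T : Subgroup Γ) ≤ conjSub x⁻¹ H := by
    have := conjSub_mono x⁻¹ hT
    rwa [conjSub_conjSub, inv_mul_cancel, conjSub_one] at this
  have h2 : conjSub x⁻¹ H ≠ ⊤ := fun e => hH (by
    rw [← conjSub_one H, ← mul_inv_cancel x, ← conjSub_conjSub, e]
    exact Subgroup.map_top_of_surjective _ (MulAut.conj x).surjective)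
  have h3 := conjSub_mono x (h.uniq _ h1 h2)
  rwa [conjSub_conjSub, mul_inv_cancel, conjSub_one] at h3

theorem exists_conj_of_le {H : Subgroup Γ} (hH : IsPGroup p ↥H) (hle : H ≤ Mx) :
    ∃ m ∈ Mx, H ≤ conjSub m (T : Subgroup Γ) := by
  obtain ⟨P, hP⟩ := (hH.of_equiv (Subgroup.subgroupOfEquivOfLe hle).symm).exists_le_sylow
  obtain ⟨m, hm⟩ := MulAction.exists_smul_eq (↥Mx) (T.subtype h.sylLe) P
  refine ⟨(m : Γ), m.2, fun x hx => ?_⟩
  have h1 : (⟨x, hle hx⟩ : ↥Mx) ∈ (P : Subgroup ↥Mx) := hP (show (⟨x, hle hx⟩ : ↥Mx) ∈ H.subgroupOf _ from hx)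
  rw [← hm, Sylow.coe_subgroup_smul] at h1
  obtain ⟨y, hy, e⟩ := h1
  exact ⟨(y : Γ), hy, congrArg Subtype.val e⟩

theorem conj_mul_mem {x m : Γ} (hm : m ∈ Mx) : conjSub (x * m) Mx = conjSub x Mx := by
  rw [← conjSub_conjSub]
  congr 1
  ext y
  rw [mem_conjSub]
  exact ⟨fun hy => by simpa [mul_assoc] using mul_mem (mul_mem hm hy) (inv_mem hm),
    fun hy => mul_mem (mul_mem (inv_mem hm) hy) hm⟩

/-- A point fixed by a Sylow subgroup moves modulo the fixed points under anything outside its maximal subgroup. -/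
theorem moving {x g : Γ} {v : M} (hv : v ∈ fx M (conjSub x (T : Subgroup Γ))) (hvZ : v ∉ fx M (⊤ : Subgroup Γ))
    (hg : g • v - v ∈ fx M (⊤ : Subgroup Γ)) : g ∈ conjSub x Mx := by
  let N : Subgroup Γ :=
    { carrier := {g | g • v - v ∈ fx M (⊤ : Subgroup Γ)}
      one_mem' := by simp [zero_mem]
      mul_mem' := fun {a b} ha hb => by
        have e : (a * b) • v - v = a • (b • v - v) + (a • v - v) := by rw [mul_smul, smul_sub]; abel
        show (a * b) • v - v ∈ fx M (⊤ : Subgroup Γ)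
        rw [e, hb a (Subgroup.mem_top a)]
        exact add_mem hb ha
      inv_mem' := fun {a} ha => by
        show a⁻¹ • v - v ∈ fx M (⊤ : Subgroup Γ)
        have e : a⁻¹ • v - v = -(a⁻¹ • (a • v - v)) := by rw [smul_sub, inv_smul_smul]; abel
        rw [e, ha a⁻¹ (Subgroup.mem_top _)]
        exact neg_mem ha }
  by_cases hN : N = ⊤
  swap
  · exact h.uniq_conj (fun t ht => show t • v - v ∈ fx M (⊤ : Subgroup Γ) by rw [hv t ht, sub_self]; exact zero_mem _) hN hg
  exfalso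
  -- the fixed group is normal and contains all Sylow subgroups
  apply hvZ
  let K : Subgroup Γ := MulAction.stabilizer Γ v
  have hmem : ∀ k, k ∈ K ↔ k • v = v := fun k => MulAction.mem_stabilizer_iff
  have hn : K.Normal := ⟨fun k hk y => by
    rw [hmem] at hk ⊢
    have hy : y⁻¹ • v - v ∈ fx M (⊤ : Subgroup Γ) := (hN ▸ Subgroup.mem_top y⁻¹ : y⁻¹ ∈ N)
    rw [mul_smul, mul_smul, show y⁻¹ • v = (y⁻¹ • v - v) + v by abel, smul_add, hk, hy k (Subgroup.mem_top _),
      sub_add_cancel, smul_inv_smul]⟩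
  have hall : ∀ y, conjSub y (T : Subgroup Γ) ≤ K := by
    intro y g hg
    obtain ⟨t, ht, rfl⟩ := hg
    have h1 : x * t * x⁻¹ ∈ K := (hmem _).2 (hv _ (conj_mem_conjSub ht))
    have h2 := hn.conj_mem _ h1 (y * x⁻¹)
    simpa [mul_assoc] using h2
  have hK : K = ⊤ := by
    obtain ⟨y, hy⟩ : ∃ y, y ∉ Mx := by
      by_contra hc; push Not at hc; exact h.proper (eq_top_iff.2 fun y _ => hc y)
    rw [eq_top_iff, ← h.gen y hy]
    refine sup_le (h.aLe.trans ?_) ((conjSub_mono y h.aLe).trans (hall y))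
    have := hall 1
    rwa [conjSub_one] at this
  exact fun g _ => (hmem g).1 (hK ▸ Subgroup.mem_top g)

theorem disjoint {g : Γ} (hg : g ∉ Mx) {v : M} (hv : v ∈ fx M A) (hv' : g⁻¹ • v ∈ fx M A) :
    v ∈ fx M (⊤ : Subgroup Γ) := by
  have hle : (⊤ : Subgroup Γ) ≤ MulAction.stabilizer Γ v := by
    rw [← h.gen g hg]
    exact sup_le (fun a ha => hv a ha) (fun a ha => (mem_fx_conj.2 hv') a ha)
  exact fun x hx => hle hx

theorem exists_moved_fixed (y : Γ) : ∃ v ∈ fx M (conjSub y (T : Subgroup Γ)), v ∉ fx M (⊤ : Subgroup Γ) := by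
  obtain ⟨v, hv, hvZ⟩ := h.moved
  refine ⟨y • v, smul_mem_fx_conj hv, fun hz => hvZ ?_⟩
  have := hz y⁻¹ (Subgroup.mem_top _)
  rw [inv_smul_smul] at this
  exact this ▸ hz

theorem card_pair_le {X Y : AddSubgroup M} (hXY : ∀ m ∈ X, m ∈ Y → m ∈ fx M (⊤ : Subgroup Γ)) {W : AddSubgroup M}
    (hX : X ≤ W) (hY : Y ≤ W) :
    Nat.card ↥X * Nat.card ↥Y ≤ Nat.card ↥W * Nat.card ↥(fx M (⊤ : Subgroup Γ)) :=
  pair_le hXY hX hY

/-- An outside element pushes the fixed space onto the other one. -/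
theorem exists_delta {y c : Γ} (hy : y ∉ Mx) (hc : c ∈ conjSub y A) (hc' : c ∉ Mx) {w : M}
    (hw : w ∈ fx M (conjSub y A)) :
    ∃ v ∈ fx M A, ∃ z ∈ fx M (⊤ : Subgroup Γ), c • v - v = w + z := by
  classical
  have hquad : ∀ v : M, c • v - v ∈ fx M (conjSub y A) := fun v => by
    rw [mem_fx_conj, smul_sub]
    intro a ha
    have := h.quad ha (mem_conjSub.1 hc) (y⁻¹ • v)
    rwa [← mul_smul (y⁻¹ * c * y), show y⁻¹ * c * y * y⁻¹ = y⁻¹ * c by group, mul_smul] at this
  set Z := fx M (⊤ : Subgroup Γ) with hZ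
  set X := fx M A
  set Y := fx M (conjSub y A)
  have hZX : Z ≤ X := fx_anti le_top
  have hZY : Z ≤ Y := fx_anti le_top
  let D : ↥X →+ (↥Y ⧸ Z.addSubgroupOf Y) :=
    (QuotientAddGroup.mk' _).comp
      (((DistribSMul.toAddMonoidHom M c).comp X.subtype - X.subtype).codRestrict Y fun v => hquad v)
  have hk : D.ker = Z.addSubgroupOf X := by
    ext v
    rw [AddMonoidHom.mem_ker, AddSubgroup.mem_addSubgroupOf]
    show (QuotientAddGroup.mk _ : ↥Y ⧸ Z.addSubgroupOf Y) = 0 ↔ _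
    rw [QuotientAddGroup.eq_zero_iff, AddSubgroup.mem_addSubgroupOf]
    show c • (v : M) - v ∈ Z ↔ _
    constructor
    · intro hv
      have hcv : c • (v : M) ∈ X := by
        rw [show c • (v : M) = (c • (v : M) - v) + v by abel]
        exact add_mem (hZX hv) v.2
      have h1 := h.disjoint hc' hcv (by rw [inv_smul_smul]; exact v.2)
      rw [show (v : M) = c • (v : M) - (c • (v : M) - v) by abel]
      exact sub_mem h1 hv
    · intro hv
      rw [hv c (Subgroup.mem_top c), sub_self]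
      exact zero_mem _
  have hsurj : Function.Surjective D := by
    refine AddMonoidHom.range_eq_top.1 (AddSubgroup.eq_top_of_card_eq _ ?_)
    rw [← Nat.card_congr (QuotientAddGroup.quotientKerEquivRange D).toEquiv, hk]
    have e1 := AddSubgroup.card_eq_card_quotient_mul_card_addSubgroup (Z.addSubgroupOf X)
    have e2 := AddSubgroup.card_eq_card_quotient_mul_card_addSubgroup (Z.addSubgroupOf Y)
    rw [Nat.card_congr (AddSubgroup.addSubgroupOfEquivOfLe hZX).toEquiv] at e1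
    rw [Nat.card_congr (AddSubgroup.addSubgroupOfEquivOfLe hZY).toEquiv,
      show Nat.card ↥Y = Nat.card ↥X from card_fx_conj y A, e1] at e2
    exact Nat.eq_of_mul_eq_mul_right Nat.card_pos e2
  obtain ⟨v, hv⟩ := hsurj (QuotientAddGroup.mk ⟨w, hw⟩)
  refine ⟨v, v.2, (c • (v : M) - v) - w, ?_, by abel⟩
  have h1 := QuotientAddGroup.eq.1 hv.symm
  rw [AddSubgroup.mem_addSubgroupOf] at h1
  have h2 : -w + (c • (v : M) - v) ∈ Z := h1
  rwa [neg_add_eq_sub] at h2

/-- The offender meets no conjugate of the maximal subgroup other than its own. -/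
theorem inter_bot {x : Γ} (hx : x ∉ Mx) : A ⊓ conjSub x Mx = ⊥ := by
  classical
  obtain ⟨x₁, hx₁, hmax⟩ := Set.exists_max_image {y : Γ | y ∉ Mx}
    (fun y => Nat.card ↥(A ⊓ conjSub y Mx)) (Set.toFinite _) ⟨x, hx⟩
  by_contra hne
  set B := A ⊓ conjSub x₁ Mx with hB
  have hBne : B ≠ ⊥ := fun e => hne (by
    have := hmax x hx
    rw [e, Subgroup.card_bot] at this
    exact Subgroup.eq_bot_of_card_le _ this)
  have hBA : B ≠ A := fun e => by
    have h1 : A ≤ conjSub x₁ Mx := e ▸ inf_le_right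
    refine h.not_top (x := x₁) (top_le_iff.1 ?_)
    rw [← h.gen x₁ hx₁]
    exact sup_le h1 (conjSub_mono x₁ h.aLeMx)
  -- a conjugate of the Sylow subgroup over `B`
  obtain ⟨m, hm, hBm⟩ := h.exists_conj_of_le (H := conjSub x₁⁻¹ B)
    (((T.2.to_le (inf_le_left.trans h.aLe)).map _))
    (by
      have := conjSub_mono x₁⁻¹ (inf_le_right : B ≤ conjSub x₁ Mx)
      rwa [conjSub_conjSub, inv_mul_cancel, conjSub_one] at this)
  set y := x₁ * m with hydef
  have hy : y ∉ Mx := fun e => hx₁ (by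
    have h1 := mul_mem e (inv_mem hm)
    rwa [hydef, mul_inv_cancel_right] at h1)
  have hBy : B ≤ conjSub y (T : Subgroup Γ) := by
    have := conjSub_mono x₁ hBm
    rwa [conjSub_conjSub, conjSub_conjSub, mul_inv_cancel, conjSub_one] at this
  set A' := conjSub y A with hA'
  have hA'T : A' ≤ conjSub y (T : Subgroup Γ) := conjSub_mono y h.aLe
  set Z := fx M (⊤ : Subgroup Γ) with hZ
  set X := fx M A with hX
  set Y := fx M A' with hY
  obtain ⟨vy, hvy, hvyZ⟩ := h.exists_moved_fixed y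
  -- conjugates of `B` by the other offender stay inside
  have hsing : ∀ c ∈ A', ∀ b ∈ B, c * b * c⁻¹ ∈ Mx := by
    intro c hc b hb
    by_cases hcM : c ∈ Mx
    · exact mul_mem (mul_mem hcM (h.aLeMx hb.1)) (inv_mem hcM)
    by_contra hg
    obtain ⟨v, hv, z, hz, hdel⟩ := h.exists_delta hy hc hcM (fx_anti hA'T hvy)
    have hvZ : v ∉ Z := fun hvz => hvyZ (by
      rw [hvz c (Subgroup.mem_top c), sub_self] at hdel
      rw [eq_neg_of_add_eq_zero_left hdel.symm]
      exact neg_mem hz)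
    have hcv : c⁻¹ • v = v - (vy + z) := by
      rw [inv_smul_eq_iff, smul_sub, smul_add, (fx_anti hA'T hvy) c hc, hz c (Subgroup.mem_top c), ← hdel]
      abel
    have hfix : (c * b * c⁻¹) • v = v := by
      rw [mul_smul, mul_smul, hcv, smul_sub, hv b hb.1, smul_add, hvy b (hBy hb), hz b (Subgroup.mem_top b),
        ← hcv, smul_inv_smul]
    exact hvZ (h.disjoint hg hv (by rw [inv_smul_eq_iff.2 hfix.symm]; exact hv))
  -- the group generated by these conjugates has a fixed point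
  set L := Subgroup.closure {g | ∃ c ∈ A', ∃ b ∈ B, g = c * b * c⁻¹} with hLdef
  have hLT : L ≤ conjSub y (T : Subgroup Γ) := by
    rw [hLdef, Subgroup.closure_le]
    rintro g ⟨c, hc, b, hb, rfl⟩
    exact mul_mem (mul_mem (hA'T hc) (hBy hb)) (inv_mem (hA'T hc))
  have hLM : L ≤ Mx := by
    rw [hLdef, Subgroup.closure_le]
    rintro g ⟨c, hc, b, hb, rfl⟩
    exact hsing c hc b hb
  obtain ⟨m₁, hm₁, hL₁⟩ := h.exists_conj_of_le ((T.2.map _).to_le hLT) hLM
  obtain ⟨v, hv, hvZ⟩ := h.exists_moved_fixed m₁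
  have hm₁M : conjSub m₁ Mx = Mx := by
    have := h.conj_mul_mem (x := 1) hm₁
    rwa [one_mul, conjSub_one] at this
  -- the commutators of `v` lie among the fixed points of `B`
  set Y' := Y ⊓ fx M B with hY'
  have hZY' : Z ≤ Y' := le_inf (fx_anti le_top) (fx_anti le_top)
  have hquad : ∀ c ∈ A', c • v - v ∈ Y := fun c hc => by
    rw [hY, hA', mem_fx_conj, smul_sub]
    intro a ha
    have := h.quad ha (mem_conjSub.1 hc) (y⁻¹ • v)
    rwa [← mul_smul (y⁻¹ * c * y), show y⁻¹ * c * y * y⁻¹ = y⁻¹ * c by group, mul_smul] at this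
  have hdB : ∀ c ∈ A', c • v - v ∈ Y' := fun c hc => by
    refine ⟨hquad c hc, fun b hb => ?_⟩
    have h1 : (c⁻¹ * b * c⁻¹⁻¹) • v = v :=
      hv _ (hL₁ (Subgroup.subset_closure ⟨c⁻¹, inv_mem hc, b, hb, rfl⟩))
    rw [inv_inv, mul_smul, mul_smul, inv_smul_eq_iff] at h1
    have h2 : b • v = v := hv b (hL₁ (Subgroup.subset_closure ⟨1, one_mem _, b, hb, by group⟩))
    rw [smul_sub, h1, h2]
  let χ : ↥A' →* Multiplicative (↥Y' ⧸ Z.addSubgroupOf Y') :=
    { toFun := fun c => Multiplicative.ofAdd (QuotientAddGroup.mk ⟨(c : Γ) • v - v, hdB c c.2⟩)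
      map_one' := by
        rw [ofAdd_eq_one, QuotientAddGroup.eq_zero_iff, AddSubgroup.mem_addSubgroupOf]
        simp [zero_mem]
      map_mul' := fun c c' => by
        rw [← ofAdd_add, ← QuotientAddGroup.mk_add]
        congr 2
        apply Subtype.ext
        show ((c : Γ) * c') • v - v = ((c : Γ) • v - v) + ((c' : Γ) • v - v)
        have h1 : (c : Γ) • ((c' : Γ) • v - v) = (c' : Γ) • v - v := (hdB c' c'.2).1 c c.2
        rw [smul_sub] at h1
        rw [mul_smul]
        calc (c : Γ) • (c' : Γ) • v - v = ((c : Γ) • (c' : Γ) • v - (c : Γ) • v) + ((c : Γ) • v - v) := by abel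
          _ = _ := by rw [h1]; abel }
  have hker : χ.ker.map A'.subtype ≤ A' ⊓ Mx := by
    rintro _ ⟨c, hc, rfl⟩
    refine ⟨c.2, hm₁M ▸ h.moving hv hvZ ?_⟩
    have h1 : χ c = 1 := hc
    rw [MonoidHom.coe_mk, OneHom.coe_mk, ofAdd_eq_one, QuotientAddGroup.eq_zero_iff,
      AddSubgroup.mem_addSubgroupOf] at h1
    exact h1
  have hA'card : Nat.card ↥A' * Nat.card ↥Z ≤ Nat.card ↥(A' ⊓ Mx : Subgroup Γ) * Nat.card ↥Y' := by
    rw [Subgroup.card_eq_card_quotient_mul_card_subgroup χ.ker,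
      Nat.card_congr (QuotientGroup.quotientKerEquivRange χ).toEquiv,
      AddSubgroup.card_eq_card_quotient_mul_card_addSubgroup (Z.addSubgroupOf Y'),
      Nat.card_congr (AddSubgroup.addSubgroupOfEquivOfLe hZY').toEquiv]
    have h1 : Nat.card ↥χ.range ≤ Nat.card (↥Y' ⧸ Z.addSubgroupOf Y') :=
      Nat.card_le_card_of_injective (fun z => Multiplicative.toAdd (z : Multiplicative _))
        (fun a b e => Subtype.ext e)
    have h2 : Nat.card ↥χ.ker ≤ Nat.card ↥(A' ⊓ Mx : Subgroup Γ) := by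
      rw [← Subgroup.card_map_of_injective A'.subtype_injective]
      exact Subgroup.card_le_of_le hker
    calc Nat.card ↥χ.range * Nat.card ↥χ.ker * Nat.card ↥Z
        = Nat.card ↥χ.ker * (Nat.card ↥χ.range * Nat.card ↥Z) := by ring
      _ ≤ _ := Nat.mul_le_mul h2 (Nat.mul_le_mul_right _ h1)
  have hdisj : ∀ m ∈ X, m ∈ Y → m ∈ Z := fun m hm1 hm2 => h.disjoint hy hm1 (mem_fx_conj.1 hm2)
  have hpair : Nat.card ↥X * Nat.card ↥Y' ≤ Nat.card ↥(fx M B) * Nat.card ↥Z :=
    h.card_pair_le (X := X) (Y := Y') (fun m h1 h2 => hdisj m h1 h2.1) (fx_anti inf_le_left) inf_le_right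
  have hst := h.strict B inf_le_left hBne hBA
  have hlt : Nat.card ↥B < Nat.card ↥(A' ⊓ Mx : Subgroup Γ) := by
    by_contra hle
    push Not at hle
    have hcA : Nat.card ↥A' = Nat.card ↥A := card_conjSub y A
    rw [hcA] at hA'card
    have h3 : Nat.card ↥A * Nat.card ↥Z * Nat.card ↥X ≤ Nat.card ↥B * Nat.card ↥(fx M B) * Nat.card ↥Z :=
      calc Nat.card ↥A * Nat.card ↥Z * Nat.card ↥X
          ≤ Nat.card ↥(A' ⊓ Mx : Subgroup Γ) * Nat.card ↥Y' * Nat.card ↥X := Nat.mul_le_mul_right _ hA'card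
        _ ≤ Nat.card ↥B * Nat.card ↥Y' * Nat.card ↥X := Nat.mul_le_mul_right _ (Nat.mul_le_mul_right _ hle)
        _ = Nat.card ↥B * (Nat.card ↥X * Nat.card ↥Y') := by ring
        _ ≤ Nat.card ↥B * (Nat.card ↥(fx M B) * Nat.card ↥Z) := Nat.mul_le_mul_left _ hpair
        _ = _ := by ring
    rw [mul_right_comm] at h3
    exact absurd (Nat.le_of_mul_le_mul_right h3 Nat.card_pos) (not_le.2 hst)
  have hy' : y⁻¹ ∉ Mx := fun e => hy (by simpa using inv_mem e)
  have hcard : Nat.card ↥(A ⊓ conjSub y⁻¹ Mx : Subgroup Γ) = Nat.card ↥(A' ⊓ Mx : Subgroup Γ) := by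
    rw [← card_conjSub y (A ⊓ conjSub y⁻¹ Mx), CfsgLib.Fusion.conjSub,
      Subgroup.map_inf _ _ _ (MulAut.conj y).injective]
    show Nat.card ↥(conjSub y A ⊓ conjSub y (conjSub y⁻¹ Mx) : Subgroup Γ) = _
    rw [conjSub_conjSub, mul_inv_cancel, conjSub_one, hA']
  have := hmax y⁻¹ hy'
  rw [hcard] at this
  omega

end Hyp

end CfsgLib.LocalEven.MinOffender
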