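import Cfsg.Agent.Lib.LocalEven.MinOffender.Core

/-!
The minimal offender gives the natural `SL₂`-module.
-/

set_option autoImplicit false
set_option linter.unusedSectionVars false
set_option linter.style.haveILetI false

namespace CfsgLib.LocalEven.MinOffender

open CfsgLib.Fusion (conjSub mem_conjSub conj_mem_conjSub conjSub_conjSub conjSub_one conjSub_mono card_conjSub)
open Matrix (SpecialLinearGroup)

variable {Γ : Type*} [Group Γ] [Finite Γ] {M : Type*} [AddCommGroup M] [DistribMulAction Γ M] [Finite M]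

namespace Hyp

variable {p : ℕ} [Fact p.Prime] {A : Subgroup Γ} {T : Sylow p Γ} {Mx : Subgroup Γ} (h : Hyp p A T Mx M)
include h

theorem core : Core p A Mx M := by
  refine ⟨h.prime, h.exp, h.faithful, T.2.to_le h.aLe, h.aComm, h.off, ?_, h.gen, fun ha hb v => h.quad ha hb v,
    fun _ hx => h.inter_bot hx, ?_⟩
  · by_contra hc; push Not at hc; exact h.proper (eq_top_iff.2 fun y _ => hc y)
  · obtain ⟨v, hv, hvZ⟩ := h.moved
    refine ⟨v, fx_anti h.aLe hv, hvZ, fun E hEn hEp => ?_⟩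
    obtain ⟨P, hP⟩ := hEp.exists_le_sylow
    obtain ⟨g, hg⟩ := MulAction.exists_smul_eq Γ P T
    refine fx_anti ?_ hv
    intro e he
    rw [← hg, Sylow.coe_subgroup_smul]
    exact ⟨g⁻¹ * e * g, hP (by simpa using hEn.conj_mem e he g⁻¹), by simp [mul_assoc]⟩

/-- The structure theorem. -/
theorem main :
    (∀ v ∈ fx M A, ∃ a ∈ A, ∃ m : M, ∃ z ∈ fx M (⊤ : Subgroup Γ), v = (a • m - m) + z) ∧
      ∃ (F : Type) (_ : Field F) (_ : Fintype F), Fintype.card F = Nat.card ↥A ∧
        ∃ (ρ : Γ →* SpecialLinearGroup (Fin 2) F) (ψ : M →+ (Fin 2 → F)), Function.Bijective ρ ∧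
          Function.Surjective ψ ∧ (∀ m, ψ m = 0 ↔ m ∈ fx M (⊤ : Subgroup Γ)) ∧
          ∀ (g : Γ) (m : M), ψ (g • m) = (ρ g).1.mulVec (ψ m) :=
  h.core.main

end Hyp

end CfsgLib.LocalEven.MinOffender
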