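import Cfsg.Agent.Lib.LocalEven.RankOne.Model
import Cfsg.Agent.Lib.LocalEven.SpreadField.Commute

/-!
A faithful module spread by two commutative quadratic groups is the natural module of `SL₂`.
-/

set_option autoImplicit false
set_option linter.unusedSectionVars false
set_option linter.style.haveILetI false

namespace CfsgLib.LocalEven.MinOffender

open CfsgLib.LocalEven.PushUp CfsgLib.LocalEven.RankOne
open CfsgLib.LocalEven.FaithfulBound (upper lower upper00 upper01 upper10 upper11 lower00 lower01 lower10 lower11)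
open Matrix (SpecialLinearGroup)

variable {Γ : Type*} [Group Γ] [Finite Γ] {N : Type*} [AddCommGroup N] [DistribMulAction Γ N] [Finite N]

/-- Two groups spreading a module. -/
structure Spread (p : ℕ) (A A' : Subgroup Γ) (X Y : AddSubgroup N) : Prop where
  exp : ∀ m : N, p • m = 0
  faithful : ∀ g : Γ, (∀ m : N, g • m = m) → g = 1
  gen : A ⊔ A' = ⊤
  fix : ∀ a ∈ A, ∀ x ∈ X, a • x = x
  fix' : ∀ c ∈ A', ∀ y ∈ Y, c • y = y
  quad : ∀ a ∈ A, ∀ v : N, a • v - v ∈ X
  quad' : ∀ c ∈ A', ∀ v : N, c • v - v ∈ Y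
  semi : ∀ a ∈ A, a ≠ 1 → ∀ y ∈ Y, a • y = y → y = 0
  semi' : ∀ c ∈ A', c ≠ 1 → ∀ x ∈ X, c • x = x → x = 0
  line : ∀ c ∈ A', c ≠ 1 → ∃ a ∈ A, ∀ x ∈ X, ∃ y ∈ Y, c • x = a • y
  disj : ∀ v ∈ X, v ∈ Y → v = 0
  sup : ∀ v : N, ∃ x ∈ X, ∃ y ∈ Y, v = x + y
  cardA : Nat.card ↥A = Nat.card ↥X
  cardA' : Nat.card ↥A' = Nat.card ↥A
  cardY : Nat.card ↥Y = Nat.card ↥X
  ppow : ∃ n, 1 ≤ n ∧ Nat.card ↥A = p ^ n

variable {p : ℕ} {A A' : Subgroup Γ} {X Y : AddSubgroup N}

/-- The endomorphism of the fixed space given by an element of the first group. -/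
def upOp (s : Spread p A A' X Y) (lift : ↥X →+ N) (a : ↥A) : AddMonoid.End ↥X :=
  (((DistribSMul.toAddMonoidHom N (a : Γ)).comp lift) - lift).codRestrict X fun _ => s.quad a a.2 _

theorem upOp_apply (s : Spread p A A' X Y) (lift : ↥X →+ N) (a : ↥A) (x : ↥X) :
    ((upOp s lift a x : ↥X) : N) = (a : Γ) • lift x - lift x := rfl

theorem Spread.natural (s : Spread p A A' X Y) (hp : p.Prime) :
    ∃ (F : Type) (_ : Field F) (_ : Fintype F), Fintype.card F = Nat.card ↥A ∧
      ∃ (ρ : Γ →* SpecialLinearGroup (Fin 2) F) (ψ : N ≃+ (Fin 2 → F)), Function.Bijective ρ ∧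
        ∀ (g : Γ) (m : N), ψ (g • m) = (ρ g).1.mulVec (ψ m) := by
  classical
  haveI := Fact.mk hp
  obtain ⟨n, hn, hcard⟩ := s.ppow
  have hA1 : 1 < Nat.card ↥A := hcard ▸ Nat.one_lt_pow (by omega) hp.one_lt
  haveI : Nontrivial ↥A := Finite.one_lt_card_iff_nontrivial.1 hA1
  obtain ⟨a₁, ha₁⟩ := exists_ne (1 : ↥A)
  have ha₁' : (a₁ : Γ) ≠ 1 := fun e => ha₁ (Subtype.ext e)
  -- the other space as a copy of the fixed one
  let δ : ↥Y →+ ↥X :=
    (((DistribSMul.toAddMonoidHom N (a₁ : Γ)).comp Y.subtype) - Y.subtype).codRestrict X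
      fun y => s.quad a₁ a₁.2 _
  have hδ : Function.Bijective δ := (Nat.bijective_iff_injective_and_card δ).2
    ⟨(injective_iff_map_eq_zero δ).2 fun y hy => Subtype.ext (s.semi a₁ a₁.2 ha₁' y y.2
      (sub_eq_zero.1 (congrArg Subtype.val hy))), s.cardY⟩
  let e₁ := AddEquiv.ofBijective δ hδ
  let lift : ↥X →+ N := Y.subtype.comp e₁.symm.toAddMonoidHom
  have hliftY : ∀ x, lift x ∈ Y := fun x => (e₁.symm x).2
  have hlift : ∀ x, (a₁ : Γ) • lift x - lift x = (x : N) := fun x => congrArg Subtype.val (e₁.apply_symm_apply x)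
  have hlift_of : ∀ y (hy : y ∈ Y), lift ⟨(a₁ : Γ) • y - y, s.quad a₁ a₁.2 y⟩ = y := fun y hy =>
    congrArg Subtype.val (e₁.symm_apply_apply ⟨y, hy⟩)
  have hlift_inj : Function.Injective lift := fun x y e => Subtype.ext (by rw [← hlift x, ← hlift y, e])
  let co : ↥X → ↥X → N := fun u v => (u : N) + lift v
  have co_inj : ∀ {u v u' v'}, co u v = co u' v' → u = u' ∧ v = v' := by
    intro u v u' v' e
    have e' : ((u - u' : ↥X) : N) = lift (v' - v) := by
      rw [map_sub, AddSubgroup.coe_sub, sub_eq_sub_iff_add_eq_add]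
      simp only [co] at e
      rw [e, add_comm]
    have h0 : ((u - u' : ↥X) : N) = 0 := s.disj _ (u - u').2 (e' ▸ hliftY _)
    rw [h0] at e'
    exact ⟨sub_eq_zero.1 (Subtype.ext h0), (sub_eq_zero.1 (hlift_inj (e'.symm.trans (map_zero _).symm))).symm⟩
  have co_surj : ∀ m, ∃ u v, co u v = m := fun m => by
    obtain ⟨x, hx, y, hy, rfl⟩ := s.sup m
    exact ⟨⟨x, hx⟩, ⟨_, s.quad a₁ a₁.2 y⟩, by simp only [co]; rw [hlift_of y hy]⟩
  haveI : Nontrivial ↥X := Finite.one_lt_card_iff_nontrivial.1 (by rw [← s.cardA]; exact hA1)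
  haveI : Finite (AddMonoid.End ↥X) :=
    Finite.of_injective (fun f : AddMonoid.End ↥X => (f : ↥X → ↥X)) DFunLike.coe_injective
  haveI : Nontrivial (AddMonoid.End ↥X) := by
    obtain ⟨x, hx⟩ := exists_ne (0 : ↥X)
    exact ⟨0, 1, fun e => hx (DFunLike.congr_fun e x).symm⟩
  -- the operators
  let up : ↥A → AddMonoid.End ↥X := upOp s lift
  have up_co : ∀ (a : ↥A) u v, (a : Γ) • co u v = co (u + up a v) v := fun a u v => by
    simp only [co, up, AddSubgroup.coe_add, upOp_apply, smul_add, s.fix a a.2 u u.2]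
    abel
  let low : ↥A' → AddMonoid.End ↥X := fun c =>
    (((DistribSMul.toAddMonoidHom N (a₁ : Γ)).comp
        (((DistribSMul.toAddMonoidHom N (c : Γ)).comp X.subtype) - X.subtype)) -
      (((DistribSMul.toAddMonoidHom N (c : Γ)).comp X.subtype) - X.subtype)).codRestrict X
      fun _ => s.quad a₁ a₁.2 _
  have lift_low : ∀ (c : ↥A') (u : ↥X), lift (low c u) = (c : Γ) • (u : N) - u := fun c u =>
    hlift_of _ (s.quad' c c.2 _)
  have low_co : ∀ (c : ↥A') u v, (c : Γ) • co u v = co u (v + low c u) := fun c u v => by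
    simp only [co, smul_add, map_add, lift_low, s.fix' c c.2 _ (hliftY v)]
    abel
  have up_mul : ∀ a b : ↥A, up (a * b) = up a + up b := fun a b => AddMonoidHom.ext fun v => by
    apply Subtype.ext
    show ((upOp s lift (a * b) v : ↥X) : N) = ((upOp s lift a v + upOp s lift b v : ↥X) : N)
    rw [upOp_apply, AddSubgroup.coe_add, upOp_apply, upOp_apply, Subgroup.coe_mul, mul_smul]
    have h1 := s.fix a a.2 _ (s.quad b b.2 (lift v))
    rw [smul_sub] at h1
    calc (a : Γ) • (b : Γ) • lift v - lift v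
        = ((a : Γ) • (b : Γ) • lift v - (a : Γ) • lift v) + ((a : Γ) • lift v - lift v) := by abel
      _ = _ := by rw [h1]; abel
  have low_mul : ∀ a b : ↥A', low (a * b) = low a + low b := fun a b => AddMonoidHom.ext fun u => hlift_inj (by
    show lift (low (a * b) u) = lift (low a u + low b u)
    rw [map_add, lift_low, lift_low, lift_low, Subgroup.coe_mul, mul_smul]
    have h1 := s.fix' a a.2 _ (s.quad' b b.2 (u : N))
    rw [smul_sub] at h1
    calc (a : Γ) • (b : Γ) • (u : N) - u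
        = ((a : Γ) • (b : Γ) • (u : N) - (a : Γ) • (u : N)) + ((a : Γ) • (u : N) - u) := by abel
      _ = _ := by rw [h1]; abel)
  let upHom : Additive ↥A →+ AddMonoid.End ↥X := AddMonoidHom.mk' (fun a => up a.toMul) (fun a b => up_mul _ _)
  let lowHom : Additive ↥A' →+ AddMonoid.End ↥X := AddMonoidHom.mk' (fun a => low a.toMul) (fun a b => low_mul _ _)
  set upSet := upHom.range with hupSet
  set lowSet := lowHom.range with hlowSet
  have up_inj : ∀ a : ↥A, up a = 0 → a = 1 := fun a ha => by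
    by_contra hne
    obtain ⟨x, hx⟩ := exists_ne (0 : ↥X)
    have h1 : (a : Γ) • lift x - lift x = 0 := by
      rw [← upOp_apply s lift a x, show upOp s lift a = 0 from ha]; rfl
    exact hx (hlift_inj ((s.semi a a.2 (fun e => hne (Subtype.ext e)) _ (hliftY x) (sub_eq_zero.1 h1)).trans
      (map_zero _).symm))
  have low_inj : ∀ c : ↥A', low c = 0 → c = 1 := fun c hc => by
    by_contra hne
    obtain ⟨x, hx⟩ := exists_ne (0 : ↥X)
    have h1 : (c : Γ) • (x : N) - x = 0 := by rw [← lift_low, hc]; exact map_zero _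
    exact hx (Subtype.ext (s.semi' c c.2 (fun e => hne (Subtype.ext e)) _ x.2 (sub_eq_zero.1 h1)))
  have cardUp : Nat.card ↥upSet = Nat.card ↥A :=
    (Nat.card_congr (AddMonoidHom.ofInjective (f := upHom)
      ((injective_iff_map_eq_zero upHom).2 fun a ha => up_inj a.toMul ha)).toEquiv).symm
  have cardLow : Nat.card ↥lowSet = Nat.card ↥A := s.cardA' ▸
    (Nat.card_congr (AddMonoidHom.ofInjective (f := lowHom)
      ((injective_iff_map_eq_zero lowHom).2 fun a ha => low_inj a.toMul ha)).toEquiv).symm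
  have hright : ∀ b ∈ lowSet, b ≠ 0 → ∃ a ∈ upSet, a * b = 1 ∧ b * a = 1 := by
    rintro b ⟨c, rfl⟩ hb
    have hc1 : ((c.toMul : ↥A') : Γ) ≠ 1 := fun e => hb (by
      have : c = 0 := Subtype.ext e
      rw [this, map_zero])
    obtain ⟨a, ha, hline⟩ := s.line _ c.toMul.2 hc1
    refine ⟨up ⟨a, ha⟩, ⟨Additive.ofMul ⟨a, ha⟩, rfl⟩, ?_⟩
    have h1 : up ⟨a, ha⟩ * lowHom c = 1 := AddMonoidHom.ext fun u => by
      obtain ⟨y, hy, hcy⟩ := hline u u.2
      have e1 := low_co c.toMul u 0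
      rw [zero_add] at e1
      have e2 : co u 0 = (u : N) := by simp [co]
      rw [e2, hcy, show y = co 0 ⟨_, s.quad a₁ a₁.2 y⟩ by simp only [co]; rw [hlift_of y hy]; simp,
        up_co ⟨a, ha⟩, zero_add] at e1
      obtain ⟨e3, e4⟩ := co_inj e1
      rw [e4] at e3
      exact e3
    exact ⟨h1, mul_eq_one_comm.1 h1⟩
  have hleft : ∀ a ∈ upSet, a ≠ 0 → ∃ b ∈ lowSet, a * b = 1 ∧ b * a = 1 := by
    have hch : ∀ b : {b : ↥lowSet // b ≠ 0}, ∃ a : {a : ↥upSet // a ≠ 0},
        ((a.1 : AddMonoid.End ↥X) * b.1 = 1 ∧ (b.1 : AddMonoid.End ↥X) * a.1 = 1) := fun b => by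
      obtain ⟨a, ha, h1, h2⟩ := hright b.1 b.1.2 fun e => b.2 (Subtype.ext e)
      exact ⟨⟨⟨a, ha⟩, fun e => zero_ne_one (α := AddMonoid.End ↥X) (by
        rw [← h1, show a = 0 from congrArg Subtype.val e, zero_mul])⟩, h1, h2⟩
    choose f hf1 hf2 using hch
    have hinj : Function.Injective f := fun b b' e => Subtype.ext (Subtype.ext
      (inv_unique (hf2 b) (by rw [e]; exact hf1 b')))
    have hcards : Nat.card {b : ↥lowSet // b ≠ 0} = Nat.card {a : ↥upSet // a ≠ 0} := by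
      have e : ↥lowSet ≃ ↥upSet := (Nat.equivFinOfCardPos (by rw [cardLow]; omega)).trans
        ((finCongr (by rw [cardLow, cardUp])).trans (Nat.equivFinOfCardPos (by rw [cardUp]; omega)).symm)
      let e' := e.trans (Equiv.swap (e 0) 0)
      refine Nat.card_congr (e'.subtypeEquiv fun b => ?_)
      have h0 : e' 0 = 0 := by simp [e']
      exact not_congr ⟨fun hb => hb ▸ h0, fun hb => e'.injective (hb.trans h0.symm)⟩
    intro a ha ha0
    obtain ⟨b, hb⟩ := ((Nat.bijective_iff_injective_and_card f).2 ⟨hinj, hcards⟩).2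
      ⟨⟨a, ha⟩, fun e => ha0 (congrArg Subtype.val e)⟩
    have e : ((f b).1 : AddMonoid.End ↥X) = a := by rw [hb]
    exact ⟨b.1, b.1.2, e ▸ hf1 b, e ▸ hf2 b⟩
  have hone : (1 : AddMonoid.End ↥X) ∈ upSet := ⟨Additive.ofMul a₁, AddMonoidHom.ext fun u => Subtype.ext (hlift u)⟩
  have hInv : InvPair upSet lowSet := ⟨hone, hleft, hright⟩
  have hexp : ∀ r : AddMonoid.End ↥X, p • r = 0 := fun r => AddMonoidHom.ext fun u => Subtype.ext (by
    show ((p • r u : ↥X) : N) = (0 : N)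
    rw [AddSubgroup.coe_nsmul, s.exp])
  have hcomm : ∀ a ∈ upSet, ∀ b ∈ upSet, a * b = b * a := fun a ha b hb =>
    SpreadField.invPair_commute hInv hp hexp ha hb
  let Rf : Subring (AddMonoid.End ↥X) :=
    { carrier := upSet
      one_mem' := hone
      mul_mem' := fun {a b} ha hb => hInv.mul_mem hp hexp hcomm ha hb
      zero_mem' := zero_mem _
      add_mem' := fun ha hb => add_mem ha hb
      neg_mem' := fun ha => neg_mem ha }
  have hfield : IsField ↥Rf := by
    refine ⟨⟨0, 1, fun e => zero_ne_one (congrArg Subtype.val e)⟩, fun a b => Subtype.ext (hcomm _ a.2 _ b.2),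
      fun {a} ha => ?_⟩
    obtain ⟨b, hb, h1, h2⟩ := hInv.left a a.2 fun e => ha (Subtype.ext e)
    exact ⟨⟨b, hInv.inv_mem a.2 h1 h2⟩, Subtype.ext h1⟩
  letI : Field ↥Rf := hfield.toField
  letI : Fintype ↥Rf := Fintype.ofFinite _
  let F := GaloisField p n
  letI : Fintype F := Fintype.ofFinite _
  have hcF : Fintype.card F = p ^ n := by rw [← Nat.card_eq_fintype_card]; exact GaloisField.card p n (by omega)
  have hcR : Fintype.card ↥Rf = p ^ n := by rw [← Nat.card_eq_fintype_card, ← hcard, ← cardUp]; rfl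
  let e : F ≃+* ↥Rf := FiniteField.ringEquivOfCardEq (hcF.trans hcR.symm)
  let θ : F →+* AddMonoid.End ↥X := Rf.subtype.comp e.toRingHom
  have hθ : ∀ f, θ f ∈ upSet := fun f => (e f).2
  have hθs : ∀ f ∈ upSet, ∃ a, θ a = f := fun f hf => ⟨e.symm ⟨f, hf⟩, by simp [θ]⟩
  obtain ⟨x₀, hx₀⟩ := exists_ne (0 : ↥X)
  have htrans : ∀ u : ↥X, ∃ a, θ a x₀ = u := by
    have hinj : Function.Injective fun a : F => θ a x₀ := fun a b hab => by
      by_contra hne
      obtain ⟨c, hc⟩ := (isUnit_iff_ne_zero.2 (sub_ne_zero.2 hne)).exists_left_inv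
      refine hx₀ ?_
      have h1 : (θ (a - b)) x₀ = 0 := by
        rw [map_sub]; exact sub_eq_zero.2 hab
      have h2 : θ c (θ (a - b) x₀) = (θ c * θ (a - b)) x₀ := rfl
      rw [h1, map_zero, ← map_mul, hc, map_one] at h2
      exact h2.symm
    exact ((Nat.bijective_iff_injective_and_card _).2 ⟨hinj, by
      rw [Nat.card_eq_fintype_card, hcF, ← hcard, s.cardA]⟩).2
  let co' : (Fin 2 → F) →+ N :=
    { toFun := fun v => co (θ (v 0) x₀) (θ (v 1) x₀)
      map_zero' := by simp [co]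
      map_add' := fun v v' => by
        simp only [Pi.add_apply, map_add, co]
        show ((θ (v 0) x₀ + θ (v' 0) x₀ : ↥X) : N) + lift (θ (v 1) x₀ + θ (v' 1) x₀) = _
        rw [map_add, AddSubgroup.coe_add]
        abel }
  have hsur : Function.Surjective co' := fun m => by
    obtain ⟨u, v, rfl⟩ := co_surj m
    obtain ⟨a, rfl⟩ := htrans u
    obtain ⟨b, rfl⟩ := htrans v
    exact ⟨![a, b], rfl⟩
  have hinj : Function.Injective co' := fun v v' hvv => by
    obtain ⟨h0, h1⟩ := co_inj (show co (θ (v 0) x₀) (θ (v 1) x₀) = co (θ (v' 0) x₀) (θ (v' 1) x₀) from hvv)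
    have hθinj : Function.Injective fun a : F => θ a x₀ :=
      ((Nat.bijective_iff_surjective_and_card _).2 ⟨htrans, by
        rw [Nat.card_eq_fintype_card, hcF, ← hcard, s.cardA]⟩).1
    funext i
    fin_cases i
    exacts [hθinj h0, hθinj h1]
  let ψ := (AddEquiv.ofBijective co' ⟨hinj, hsur⟩).symm
  have hψ : ∀ v, ψ (co' v) = v := (AddEquiv.ofBijective co' ⟨hinj, hsur⟩).symm_apply_apply
  let H : Subgroup Γ :=
    { carrier := {g | ∃ B : SpecialLinearGroup (Fin 2) F, ∀ v, g • co' v = co' (B.1.mulVec v)}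
      one_mem' := ⟨1, fun v => by simp⟩
      mul_mem' := by
        rintro g g' ⟨B, hB⟩ ⟨B', hB'⟩
        exact ⟨B * B', fun v => by rw [mul_smul, hB', hB, Matrix.mulVec_mulVec, Matrix.SpecialLinearGroup.coe_mul]⟩
      inv_mem' := by
        rintro g ⟨B, hB⟩
        refine ⟨B⁻¹, fun v => ?_⟩
        rw [inv_smul_eq_iff, hB, Matrix.mulVec_mulVec, ← Matrix.SpecialLinearGroup.coe_mul, mul_inv_cancel,
          Matrix.SpecialLinearGroup.coe_one, Matrix.one_mulVec] }
  have hup : ∀ (a : ↥A) (u : F), θ u = up a → ∀ v, (a : Γ) • co' v = co' ((upper u).1.mulVec v) := by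
    intro a u hu v
    have h1 : (upper u).1.mulVec v = ![v 0 + u * v 1, v 1] := by
      ext i; fin_cases i <;> simp [Matrix.mulVec, dotProduct, Fin.sum_univ_two, upper00, upper01, upper10, upper11]
    rw [h1]
    show (a : Γ) • co _ _ = co (θ (v 0 + u * v 1) x₀) (θ (v 1) x₀)
    rw [up_co, ← hu, map_add, map_mul]
    rfl
  have hlo : ∀ (c : ↥A') (u : F), θ u = low c → ∀ v, (c : Γ) • co' v = co' ((lower u).1.mulVec v) := by
    intro c u hu v
    have h1 : (lower u).1.mulVec v = ![v 0, v 1 + u * v 0] := by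
      ext i; fin_cases i <;>
        simp [Matrix.mulVec, dotProduct, Fin.sum_univ_two, lower00, lower01, lower10, lower11, add_comm]
    rw [h1]
    show (c : Γ) • co _ _ = co (θ (v 0) x₀) (θ (v 1 + u * v 0) x₀)
    rw [low_co, ← hu, map_add, map_mul]
    rfl
  have hlow : ∀ f, f ∈ lowSet ↔ f ∈ upSet := by
    intro f
    constructor
    · intro hf
      by_cases hf0 : f = 0
      · exact hf0 ▸ zero_mem _
      obtain ⟨a, ha, h1, h2⟩ := hInv.right f hf hf0
      exact hInv.inv_mem ha h1 h2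
    · intro hf
      by_cases hf0 : f = 0
      · exact hf0 ▸ zero_mem _
      obtain ⟨b, hb, h1, h2⟩ := hInv.left f hf hf0
      obtain ⟨a, ha, h3, h4⟩ := hInv.left b (hInv.inv_mem hf h1 h2) (right_ne_zero_of_mul_eq_one h1)
      exact inv_unique h4 h2 ▸ ha
  have htop : H = ⊤ := by
    rw [eq_top_iff, ← s.gen]
    refine sup_le (fun a ha => ?_) (fun c hc => ?_)
    · obtain ⟨u, hu⟩ := hθs (up ⟨a, ha⟩) ⟨Additive.ofMul ⟨a, ha⟩, rfl⟩
      exact ⟨upper u, hup _ u hu⟩
    · obtain ⟨u, hu⟩ := hθs (low ⟨c, hc⟩) ((hlow _).1 ⟨Additive.ofMul ⟨c, hc⟩, rfl⟩)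
      exact ⟨lower u, hlo _ u hu⟩
  have huniq : ∀ B B' : SpecialLinearGroup (Fin 2) F, (∀ v, co' (B.1.mulVec v) = co' (B'.1.mulVec v)) → B = B' :=
    fun B B' hBB => Subtype.ext (Matrix.toLin'.injective (LinearMap.ext fun v => by
      rw [Matrix.toLin'_apply, Matrix.toLin'_apply]
      exact hinj (hBB v)))
  choose B hB using fun g : Γ => (htop.ge (Subgroup.mem_top g) : g ∈ H)
  let ρ : Γ →* SpecialLinearGroup (Fin 2) F :=
    { toFun := B
      map_one' := huniq _ _ fun v => by rw [← hB]; simp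
      map_mul' := fun g g' => huniq _ _ fun v => by
        rw [← hB, mul_smul, hB, hB, Matrix.mulVec_mulVec, Matrix.SpecialLinearGroup.coe_mul] }
  refine ⟨F, inferInstance, inferInstance, hcF.trans hcard.symm, ρ, ψ, ⟨(injective_iff_map_eq_one ρ).2 fun g hg => ?_,
    MonoidHom.range_eq_top.1 (closure_elementary_eq_top (H := ρ.range) (fun t => ?_) (fun t => ?_))⟩, fun g m => ?_⟩
  · refine s.faithful g fun m => ?_
    obtain ⟨v, rfl⟩ := hsur m
    rw [hB g v, show B g = 1 from hg, Matrix.SpecialLinearGroup.coe_one, Matrix.one_mulVec]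
  · obtain ⟨a, ha⟩ := hθ t
    exact ⟨(a.toMul : Γ), huniq _ _ fun v => by rw [← hup a.toMul t ha.symm v]; exact (hB _ v).symm⟩
  · obtain ⟨c, hc⟩ := (hlow _).2 (hθ t)
    exact ⟨(c.toMul : Γ), huniq _ _ fun v => by rw [← hlo c.toMul t hc.symm v]; exact (hB _ v).symm⟩
  · obtain ⟨v, rfl⟩ := hsur m
    rw [hB, hψ, hψ]
    rfl

end CfsgLib.LocalEven.MinOffender
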