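import Cfsg.Agent.Lib.LocalEven.MinOffender.Basic
import Cfsg.Agent.Lib.LocalEven.MinOffender.Natural

/-!
An offender generating with each outside conjugate and meeting no other point stabiliser gives the natural `SL₂`-module.
-/

set_option autoImplicit false
set_option linter.unusedSectionVars false
set_option linter.style.haveILetI false

namespace CfsgLib.LocalEven.MinOffender

open CfsgLib.Fusion (conjSub mem_conjSub conj_mem_conjSub conjSub_conjSub conjSub_one conjSub_mono card_conjSub)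
open Matrix (SpecialLinearGroup)

variable {Γ : Type*} [Group Γ] [Finite Γ] {M : Type*} [AddCommGroup M] [DistribMulAction Γ M] [Finite M]

/-- The action on the module modulo its fixed points. -/
noncomputable instance quotAction : DistribMulAction Γ (M ⧸ fx M (⊤ : Subgroup Γ)) where
  smul g := QuotientAddGroup.map _ _ (DistribSMul.toAddMonoidHom M g) fun m hm => by
    show g • m ∈ fx M (⊤ : Subgroup Γ)
    rw [hm g (Subgroup.mem_top g)]; exact hm
  one_smul q := by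
    induction q using QuotientAddGroup.induction_on with
    | H m => exact congrArg _ (one_smul Γ m)
  mul_smul g g' q := by
    induction q using QuotientAddGroup.induction_on with
    | H m => exact congrArg _ (mul_smul g g' m)
  smul_zero g := map_zero _
  smul_add g a b := map_add _ a b

theorem smul_mk (g : Γ) (m : M) :
    g • (QuotientAddGroup.mk m : M ⧸ fx M (⊤ : Subgroup Γ)) = QuotientAddGroup.mk (g • m) := rfl

/-- The setting: `A` generates with each conjugate outside `Mx` and meets no other conjugate of `Mx`. -/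
structure Core (p : ℕ) (A Mx : Subgroup Γ) (M : Type*) [AddCommGroup M] [DistribMulAction Γ M] : Prop where
  prime : p.Prime
  exp : ∀ m : M, p • m = 0
  faithful : ∀ g : Γ, (∀ m : M, g • m = m) → g = 1
  pA : IsPGroup p ↥A
  aComm : ∀ a ∈ A, ∀ b ∈ A, a * b = b * a
  off : Nat.card M ≤ Nat.card ↥A * Nat.card ↥(fx M A)
  proper : ∃ x, x ∉ Mx
  gen : ∀ x ∉ Mx, A ⊔ conjSub x A = ⊤
  quad : ∀ {a b : Γ}, a ∈ A → b ∈ A → ∀ v : M, a • (b • v - v) = b • v - v
  interBot : ∀ x ∉ Mx, A ⊓ conjSub x Mx = ⊥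
  moved : ∃ v ∈ fx M A, v ∉ fx M (⊤ : Subgroup Γ) ∧ ∀ E : Subgroup Γ, E.Normal → IsPGroup p ↥E → v ∈ fx M E

namespace Core

variable {p : ℕ} [Fact p.Prime] {A Mx : Subgroup Γ} (h : Core p A Mx M)
include h

theorem disjoint {g : Γ} (hg : g ∉ Mx) {v : M} (hv : v ∈ fx M A) (hv' : g⁻¹ • v ∈ fx M A) :
    v ∈ fx M (⊤ : Subgroup Γ) := by
  have hle : (⊤ : Subgroup Γ) ≤ MulAction.stabilizer Γ v := by
    rw [← h.gen g hg]
    exact sup_le (fun a ha => hv a ha) (fun a ha => (mem_fx_conj.2 hv') a ha)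
  exact fun x hx => hle hx

theorem inter_bot' {y : Γ} (hy : y ∉ Mx) {c : Γ} (hc : c ∈ conjSub y A) (hcM : c ∈ Mx) : c = 1 := by
  have h1 : y⁻¹ * c * y ∈ A ⊓ conjSub y⁻¹ Mx :=
    ⟨mem_conjSub.1 hc, mem_conjSub.2 (by simpa [mul_assoc] using hcM)⟩
  rw [h.interBot _ (fun e => hy (by simpa using inv_mem e)), Subgroup.mem_bot, mul_assoc, inv_mul_eq_one] at h1
  exact mul_right_cancel (b := y) (by rw [one_mul]; exact h1.symm)

theorem semireg {x : Γ} (hx : x ∉ Mx) {a : Γ} (ha : a ∈ A) (ha1 : a ≠ 1) {v : M}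
    (hv : v ∈ fx M (conjSub x A)) (hav : a • v - v ∈ fx M (⊤ : Subgroup Γ)) : v ∈ fx M (⊤ : Subgroup Γ) := by
  have hg : (x⁻¹ * a * x)⁻¹ ∉ Mx := fun e => by
    have e' := inv_mem e
    rw [inv_inv] at e'
    have h1 : a ∈ A ⊓ conjSub x Mx := ⟨ha, mem_conjSub.2 e'⟩
    rw [h.interBot x hx, Subgroup.mem_bot] at h1
    exact ha1 h1
  have hav' : a • v ∈ fx M (conjSub x A) := by
    rw [show a • v = (a • v - v) + v by abel]
    exact add_mem (fx_anti le_top hav) hv
  have hu := mem_fx_conj.1 hv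
  have h2 : (x⁻¹ * a * x)⁻¹⁻¹ • (x⁻¹ • v) ∈ fx M A := by
    rw [inv_inv, ← mul_smul, show x⁻¹ * a * x * x⁻¹ = x⁻¹ * a by group, mul_smul]
    exact mem_fx_conj.1 hav'
  have h3 := h.disjoint hg hu h2
  have h4 := h3 x (Subgroup.mem_top x)
  rw [smul_inv_smul] at h4
  exact h4 ▸ h3

theorem quad_conj {x c : Γ} (hc : c ∈ conjSub x A) (v : M) : c • v - v ∈ fx M (conjSub x A) := by
  rw [mem_fx_conj, smul_sub]
  intro a ha
  have := h.quad ha (mem_conjSub.1 hc) (x⁻¹ • v)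
  rwa [← mul_smul (x⁻¹ * c * x), show x⁻¹ * c * x * x⁻¹ = x⁻¹ * c by group, mul_smul] at this

theorem card_pair_le {X Y : AddSubgroup M} (hXY : ∀ m ∈ X, m ∈ Y → m ∈ fx M (⊤ : Subgroup Γ)) {W : AddSubgroup M}
    (hX : X ≤ W) (hY : Y ≤ W) :
    Nat.card ↥X * Nat.card ↥Y ≤ Nat.card ↥W * Nat.card ↥(fx M (⊤ : Subgroup Γ)) :=
  pair_le hXY hX hY

theorem inter {x : Γ} (hx : x ∉ Mx) : ∀ m ∈ fx M A, m ∈ fx M (conjSub x A) → m ∈ fx M (⊤ : Subgroup Γ) :=
  fun _ h1 h2 => h.disjoint hx h1 (mem_fx_conj.1 h2)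

/-- The orders, and the fixed space as the commutators of one point. -/
theorem counts {x : Γ} (hx : x ∉ Mx) {w : M} (hwY : w ∈ fx M (conjSub x A))
    (hwZ : w ∉ fx M (⊤ : Subgroup Γ)) :
    Nat.card ↥(fx M A) = Nat.card ↥A * Nat.card ↥(fx M (⊤ : Subgroup Γ)) ∧
      Nat.card M = Nat.card ↥A * Nat.card ↥(fx M A) ∧
      ∀ v ∈ fx M A, ∃ a ∈ A, ∃ z ∈ fx M (⊤ : Subgroup Γ), v = (a • w - w) + z := by
  classical
  set Z := fx M (⊤ : Subgroup Γ) with hZ
  set X := fx M A with hX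
  set A' := conjSub x A with hA'
  set Y := fx M A' with hY
  have hZX : Z ≤ X := fx_anti le_top
  have hXY := h.inter hx
  -- the commutators of one point give the fixed space
  let χ : ↥A → (↥X ⧸ Z.addSubgroupOf X) := fun a => QuotientAddGroup.mk ⟨(a : Γ) • w - w, fun b hb => h.quad hb a.2 w⟩
  have hχ : Function.Injective χ := fun a b hab => by
    have h1 := QuotientAddGroup.eq.1 hab
    rw [AddSubgroup.mem_addSubgroupOf] at h1
    have h2 : -((a : Γ) • w - w) + ((b : Γ) • w - w) ∈ Z := h1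
    by_contra hne
    refine hwZ (h.semireg hx (mul_mem (inv_mem a.2) b.2) (fun e => hne (Subtype.ext (inv_mul_eq_one.1 e))) hwY ?_)
    have h3 : ((a : Γ)⁻¹ * b) • w - w = (a : Γ)⁻¹ • (-((a : Γ) • w - w) + ((b : Γ) • w - w)) := by
      rw [smul_add, smul_neg, smul_sub, smul_sub, inv_smul_smul, ← mul_smul]; abel
    rw [h3, h2 _ (Subgroup.mem_top _)]
    exact h2
  set q := Nat.card ↥A with hq
  have cX : Nat.card ↥X = Nat.card (↥X ⧸ Z.addSubgroupOf X) * Nat.card ↥Z := by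
    rw [AddSubgroup.card_eq_card_quotient_mul_card_addSubgroup (Z.addSubgroupOf X),
      Nat.card_congr (AddSubgroup.addSubgroupOfEquivOfLe hZX).toEquiv]
  have hcle : q ≤ Nat.card (↥X ⧸ Z.addSubgroupOf X) := Nat.card_le_card_of_injective χ hχ
  have hYX : Nat.card ↥Y = Nat.card ↥X := card_fx_conj x A
  have hsq : Nat.card ↥X * Nat.card ↥X ≤ Nat.card M * Nat.card ↥Z := by
    have := h.card_pair_le (X := X) (Y := Y) hXY le_top le_top
    rwa [hYX, AddSubgroup.card_top] at this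
  have hXq : Nat.card ↥X = q * Nat.card ↥Z := by
    refine le_antisymm ?_ (cX ▸ Nat.mul_le_mul_right _ hcle)
    refine Nat.le_of_mul_le_mul_right (c := Nat.card ↥X) ?_ Nat.card_pos
    calc Nat.card ↥X * Nat.card ↥X ≤ Nat.card M * Nat.card ↥Z := hsq
      _ ≤ q * Nat.card ↥X * Nat.card ↥Z := Nat.mul_le_mul_right _ h.off
      _ = _ := by ring
  have hquot : Nat.card (↥X ⧸ Z.addSubgroupOf X) = q := Nat.eq_of_mul_eq_mul_right Nat.card_pos (cX.symm.trans hXq)
  have hMq : Nat.card M = q * Nat.card ↥X := by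
    refine le_antisymm h.off (Nat.le_of_mul_le_mul_right (c := Nat.card ↥Z) ?_ Nat.card_pos)
    calc q * Nat.card ↥X * Nat.card ↥Z = Nat.card ↥X * (q * Nat.card ↥Z) := by ring
      _ = Nat.card ↥X * Nat.card ↥X := by rw [← hXq]
      _ ≤ _ := hsq
  have hfix : ∀ v ∈ X, ∃ a ∈ A, ∃ z ∈ Z, v = (a • w - w) + z := by
    intro v hv
    obtain ⟨a, ha⟩ := ((Nat.bijective_iff_injective_and_card χ).2 ⟨hχ, hquot.symm⟩).2 (QuotientAddGroup.mk ⟨v, hv⟩)
    have h1 := QuotientAddGroup.eq.1 ha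
    rw [AddSubgroup.mem_addSubgroupOf] at h1
    have h2 : -((a : Γ) • w - w) + v ∈ Z := h1
    exact ⟨a, a.2, _, h2, by abel⟩
  exact ⟨hXq, hMq, hfix⟩

theorem card_fix : Nat.card ↥(fx M A) = Nat.card ↥A * Nat.card ↥(fx M (⊤ : Subgroup Γ)) := by
  obtain ⟨x, hx⟩ := h.proper
  obtain ⟨v, hv, hvZ, -⟩ := h.moved
  exact (h.counts hx (smul_mem_fx_conj (g := x) hv) (fun hz => hvZ (by
    have := hz x⁻¹ (Subgroup.mem_top _); rw [inv_smul_smul] at this; exact this ▸ hz))).1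

theorem card_mod : Nat.card M = Nat.card ↥A * Nat.card ↥(fx M A) := by
  obtain ⟨x, hx⟩ := h.proper
  obtain ⟨v, hv, hvZ, -⟩ := h.moved
  exact (h.counts hx (smul_mem_fx_conj (g := x) hv) (fun hz => hvZ (by
    have := hz x⁻¹ (Subgroup.mem_top _); rw [inv_smul_smul] at this; exact this ▸ hz))).2.1

theorem exists_add {x : Γ} (hx : x ∉ Mx) : ∀ v : M, ∃ a ∈ fx M A, ∃ b ∈ fx M (conjSub x A), v = a + b := by
  set Z := fx M (⊤ : Subgroup Γ) with hZ
  set X := fx M A with hX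
  set Y := fx M (conjSub x A) with hY
  set q := Nat.card ↥A with hq
  have hXY := h.inter hx
  have hXq := h.card_fix
  have hMq := h.card_mod
  have hYX : Nat.card ↥Y = Nat.card ↥X := card_fx_conj x A
  have hsup : ∀ v : M, ∃ a ∈ X, ∃ b ∈ Y, v = a + b := by
    have h1 := h.card_pair_le (X := X) (Y := Y) hXY (W := X ⊔ Y) le_sup_left le_sup_right
    rw [hYX] at h1
    have h2 : X ⊔ Y = ⊤ := by
      refine AddSubgroup.eq_top_of_le_card _ ?_
      refine Nat.le_of_mul_le_mul_right (c := Nat.card ↥Z) ?_ Nat.card_pos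
      refine le_trans (le_of_eq ?_) h1
      rw [hMq, hXq]; ring
    intro v
    obtain ⟨a, ha, b, hb, rfl⟩ := AddSubgroup.mem_sup.1 (h2 ▸ AddSubgroup.mem_top v : v ∈ X ⊔ Y)
    exact ⟨a, ha, b, hb, rfl⟩
  exact hsup

/-- The translates of the other space cover what lies outside. -/
theorem cover {x : Γ} (hx : x ∉ Mx) : ∀ v : M, v ∉ fx M A →
    ∃ a ∈ A, ∃ y ∈ fx M (conjSub x A), y ∉ fx M (⊤ : Subgroup Γ) ∧ v = a • y := by
  set Z := fx M (⊤ : Subgroup Γ) with hZ
  set X := fx M A with hX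
  set Y := fx M (conjSub x A) with hY
  set q := Nat.card ↥A with hq
  have hZY : Z ≤ Y := fx_anti le_top
  have hXY := h.inter hx
  have hXq := h.card_fix
  have hMq := h.card_mod
  have hYX : Nat.card ↥Y = Nat.card ↥X := card_fx_conj x A
  have hinj : Set.InjOn (fun z : Γ × M => z.1 • z.2) ((A : Set Γ) ×ˢ ((Y : Set M) \ (Z : Set M))) := by
    rintro ⟨a, y⟩ ⟨ha, hy, hyZ⟩ ⟨b, y'⟩ ⟨hb, hy', hyZ'⟩ e
    simp only at e ha hb hy hy' hyZ hyZ'
    by_cases hab : a = b
    · subst hab; rw [smul_left_cancel a e]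
    · exfalso
      have hg : b⁻¹ * a ∈ A := mul_mem (inv_mem hb) ha
      have hgy : (b⁻¹ * a) • y = y' := by rw [mul_smul, e, inv_smul_smul]
      have h1 : (b⁻¹ * a) • y - y ∈ Z :=
        hXY _ (fun c hc => h.quad hc hg y) (hgy ▸ Y.sub_mem hy' hy)
      exact hyZ (h.semireg hx hg (fun e' => hab (inv_mul_eq_one.1 e').symm) hy h1)
  have hsub : (fun z : Γ × M => z.1 • z.2) '' ((A : Set Γ) ×ˢ ((Y : Set M) \ (Z : Set M))) ⊆ (X : Set M)ᶜ := by
    rintro _ ⟨⟨a, y⟩, ⟨ha, hy, hyZ⟩, rfl⟩ hmem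
    refine hyZ (hXY y ?_ hy)
    intro b hb
    have h1 := (hmem : a • y ∈ X) b hb
    simp only at ha
    rw [← mul_smul, h.aComm b hb a ha, mul_smul] at h1
    exact smul_left_cancel a h1
  have heq : (fun z : Γ × M => z.1 • z.2) '' ((A : Set Γ) ×ˢ ((Y : Set M) \ (Z : Set M))) = (X : Set M)ᶜ := by
    refine Set.eq_of_subset_of_ncard_le hsub (le_of_eq ?_) (Set.toFinite _)
    rw [Set.ncard_compl, Set.InjOn.ncard_image hinj, Set.ncard_prod,
      Set.ncard_diff (SetLike.coe_subset_coe.2 hZY) (Set.toFinite _)]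
    simp only [← Nat.card_coe_set_eq, SetLike.coe_sort_coe]
    rw [hMq, ← hq, hYX, hXq, Nat.mul_sub]
  intro v hv
  obtain ⟨⟨a, y⟩, ⟨ha, hy, hyZ⟩, e⟩ := heq.ge hv
  exact ⟨a, ha, y, hy, hyZ, e.symm⟩

/-- The structure theorem. -/
theorem main :
    (∀ v ∈ fx M A, ∃ a ∈ A, ∃ m : M, ∃ z ∈ fx M (⊤ : Subgroup Γ), v = (a • m - m) + z) ∧
      ∃ (F : Type) (_ : Field F) (_ : Fintype F), Fintype.card F = Nat.card ↥A ∧
        ∃ (ρ : Γ →* SpecialLinearGroup (Fin 2) F) (ψ : M →+ (Fin 2 → F)), Function.Bijective ρ ∧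
          Function.Surjective ψ ∧ (∀ m, ψ m = 0 ↔ m ∈ fx M (⊤ : Subgroup Γ)) ∧
          ∀ (g : Γ) (m : M), ψ (g • m) = (ρ g).1.mulVec (ψ m) := by
  classical
  obtain ⟨x, hx⟩ := h.proper
  set Z := fx M (⊤ : Subgroup Γ) with hZ
  set X := fx M A with hX
  set A' := conjSub x A with hA'
  set Y := fx M A' with hY
  set q := Nat.card ↥A with hq
  have hZX : Z ≤ X := fx_anti le_top
  have hZY : Z ≤ Y := fx_anti le_top
  have hXY := h.inter hx
  have hquad' : ∀ c ∈ A', ∀ v : M, c • v - v ∈ Y := fun c hc v => h.quad_conj hc v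
  obtain ⟨v₀, hv₀, hv₀Z, hv₀E⟩ := h.moved
  set w := x • v₀
  have hwY : w ∈ Y := smul_mem_fx_conj hv₀
  have hwZ : w ∉ Z := fun hz => hv₀Z (by
    have := hz x⁻¹ (Subgroup.mem_top _); rw [inv_smul_smul] at this; exact this ▸ hz)
  obtain ⟨hXq, hMq, hfix⟩ := h.counts hx hwY hwZ
  have hYX : Nat.card ↥Y = Nat.card ↥X := card_fx_conj x A
  refine ⟨fun v hv => (by obtain ⟨a, ha, z, hz, e⟩ := hfix v hv; exact ⟨a, ha, w, z, hz, e⟩), ?_⟩
  have hq1 : 1 < q := by
    by_contra hle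
    have hXZ : X = Z := by
      refine (AddSubgroup.eq_of_le_of_card_ge hZX ?_).symm
      rw [hXq, ← hq, show q = 1 by have : 0 < q := Nat.card_pos; omega, one_mul]
    exact hv₀Z (show v₀ ∈ Z by rw [← hXZ]; exact hv₀)
  have hsup := h.exists_add hx
  have hcover := h.cover hx
  -- lines go to lines
  have hline : ∀ c ∈ A', c ≠ 1 → ∃ a ∈ A, ∀ v ∈ X, ∃ y ∈ Y, c • v = a • y := by
    intro c hc hc1
    have hcM : c ∉ Mx := fun e => hc1 (h.inter_bot' hx hc e)
    have hout : ∀ v ∈ X, v ∉ Z → c • v ∉ X := fun v hv hvZ hcv => hvZ (by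
      have h1 := h.disjoint hcM hcv (by rwa [inv_smul_smul])
      have h2 := h1 c⁻¹ (Subgroup.mem_top _)
      rw [inv_smul_smul] at h2
      exact h2 ▸ h1)
    have hcoset : ∀ v ∈ X, v ∉ Z → ∀ a ∈ A, ∀ y ∈ Y, c • v = a • y → (a * x)⁻¹ * c ∈ Mx := by
      intro v hv hvZ a ha y hy e
      by_contra hm
      have h1 := h.disjoint (g := ((a * x)⁻¹ * c)⁻¹) (fun e' => hm (Subgroup.inv_mem_iff Mx |>.1 e')) hv (by
        rw [inv_inv, mul_smul, e, mul_inv_rev, mul_smul, inv_smul_smul]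
        exact mem_fx_conj.1 hy)
      exact hvZ h1
    obtain ⟨v₁, hv₁X, hv₁Z, -⟩ := h.moved
    obtain ⟨a, ha, y, hy, -, e⟩ := hcover _ (hout v₁ hv₁X hv₁Z)
    refine ⟨a, ha, fun v hv => ?_⟩
    by_cases hvZ : v ∈ Z
    · exact ⟨v, hZY hvZ, by rw [hvZ c (Subgroup.mem_top c), hvZ a (Subgroup.mem_top a)]⟩
    obtain ⟨a', ha', y', hy', -, e'⟩ := hcover _ (hout v hv hvZ)
    refine ⟨y', hy', ?_⟩
    suffices a' = a by rw [← this]; exact e'
    have h1 := mul_mem (hcoset v hv hvZ a' ha' y' hy' e') (inv_mem (hcoset v₁ hv₁X hv₁Z a ha y hy e))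
    rw [show (a' * x)⁻¹ * c * ((a * x)⁻¹ * c)⁻¹ = x⁻¹ * (a'⁻¹ * a) * x by group] at h1
    have h2 : a'⁻¹ * a ∈ A ⊓ conjSub x Mx := ⟨A.mul_mem (A.inv_mem ha') ha, mem_conjSub.2 h1⟩
    rw [h.interBot x hx, Subgroup.mem_bot] at h2
    exact inv_mul_eq_one.1 h2
  -- faithfulness modulo the fixed points
  have hfaith : ∀ g : Γ, (∀ m : M, g • m - m ∈ Z) → g = 1 := by
    let E : Subgroup Γ :=
      { carrier := {g | ∀ m : M, g • m - m ∈ Z}
        one_mem' := fun m => by simp [zero_mem]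
        mul_mem' := fun {a b} ha hb m => by
          rw [show (a * b) • m - m = (a • b • m - b • m) + (b • m - m) by rw [mul_smul]; abel]
          exact add_mem (ha _) (hb m)
        inv_mem' := fun {a} ha m => by
          rw [show a⁻¹ • m - m = -(a • (a⁻¹ • m) - a⁻¹ • m) by rw [smul_inv_smul]; abel]
          exact neg_mem (ha _) }
    have hEn : E.Normal := ⟨fun e he g m => by
      have h1 := he (g⁻¹ • m)
      rw [show (g * e * g⁻¹) • m - m = g • (e • g⁻¹ • m - g⁻¹ • m) by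
        rw [smul_sub, smul_inv_smul, mul_smul, mul_smul], h1 g (Subgroup.mem_top g)]
      exact h1⟩
    have hEp : IsPGroup p ↥E := by
      intro e
      refine ⟨1, Subtype.ext ?_⟩
      rw [pow_one, Subgroup.coe_pow, Subgroup.coe_one]
      refine h.faithful _ fun m => ?_
      have hpow : ∀ k : ℕ, (e : Γ) ^ k • m = m + k • ((e : Γ) • m - m) := by
        intro k
        induction k with
        | zero => simp
        | succ k ih =>
          rw [pow_succ', mul_smul, ih, smul_add, smul_comm (e : Γ) k, e.2 m _ (Subgroup.mem_top _), succ_nsmul]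
          abel
      rw [hpow, h.exp, add_zero]
    have hinv : ∀ g : Γ, ∀ m ∈ fx M E, g • m ∈ fx M E := fun g m hm e he => by
      have h1 := hm _ (hEn.conj_mem e he g⁻¹)
      rw [mul_smul, mul_smul, inv_inv, inv_smul_eq_iff] at h1
      exact h1
    have hwE : w ∈ fx M E := hinv x v₀ (hv₀E E hEn hEp)
    have hXE : ∀ v ∈ X, v ∈ fx M E := fun v hv => by
      obtain ⟨a, -, z, hz, rfl⟩ := hfix v hv
      exact add_mem (sub_mem (hinv a w hwE) hwE) (fx_anti le_top hz)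
    intro g hg
    refine h.faithful g fun m => ?_
    obtain ⟨v, hv, y, hy, rfl⟩ := hsup m
    have hyE : y ∈ fx M E := by
      have h1 := hinv x _ (hXE _ (mem_fx_conj.1 hy))
      rwa [smul_inv_smul] at h1
    exact (add_mem (hXE v hv) hyE) g hg
  -- the spread
  let π := QuotientAddGroup.mk' Z
  have hπ : ∀ m, π m = 0 ↔ m ∈ Z := fun m => QuotientAddGroup.eq_zero_iff m
  have hπs : ∀ (g : Γ) (m : M), g • π m = π (g • m) := fun g m => smul_mk g m
  have cmap : ∀ W : AddSubgroup M, Z ≤ W → Nat.card ↥(W.map π) * Nat.card ↥Z = Nat.card ↥W := fun W hW => by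
    rw [AddSubgroup.card_eq_card_quotient_mul_card_addSubgroup (Z.addSubgroupOf W),
      Nat.card_congr (AddSubgroup.addSubgroupOfEquivOfLe hW).toEquiv]
    congr 1
    have hs := π.addSubgroupMap_surjective W
    rw [← Nat.card_congr (QuotientAddGroup.quotientKerEquivOfSurjective _ hs).toEquiv,
      show (π.addSubgroupMap W).ker = Z.addSubgroupOf W from by
        ext z
        rw [AddMonoidHom.mem_ker, AddSubgroup.mem_addSubgroupOf, ← Subtype.val_inj]
        exact hπ _]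
  have cXb : Nat.card ↥(X.map π) = q :=
    Nat.eq_of_mul_eq_mul_right (Nat.card_pos (α := ↥Z)) ((cmap X hZX).trans hXq)
  have cYb : Nat.card ↥(Y.map π) = q :=
    Nat.eq_of_mul_eq_mul_right (Nat.card_pos (α := ↥Z)) ((cmap Y hZY).trans (hYX.trans hXq))
  have S : Spread p A A' (X.map π) (Y.map π) := by
    refine ⟨?_, ?_, h.gen x hx, ?_, ?_, ?_, ?_, ?_, ?_, ?_, ?_, ?_, cXb.symm, card_conjSub x A, cYb.trans cXb.symm, ?_⟩
    · intro m
      obtain ⟨m, rfl⟩ := QuotientAddGroup.mk'_surjective Z m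
      rw [← map_nsmul, h.exp, map_zero]
    · intro g hg
      refine hfaith g fun m => (hπ _).1 ?_
      rw [map_sub, ← hπs, hg, sub_self]
    · rintro a ha _ ⟨v, hv, rfl⟩
      rw [hπs, hv a ha]
    · rintro c hc _ ⟨v, hv, rfl⟩
      rw [hπs, hv c hc]
    · intro a ha v
      obtain ⟨v, rfl⟩ := QuotientAddGroup.mk'_surjective Z v
      exact ⟨_, fun b hb => h.quad hb ha v, by rw [map_sub, ← hπs]⟩
    · intro c hc v
      obtain ⟨v, rfl⟩ := QuotientAddGroup.mk'_surjective Z v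
      exact ⟨_, hquad' c hc v, by rw [map_sub, ← hπs]⟩
    · rintro a ha ha1 _ ⟨v, hv, rfl⟩ e
      rw [hπ]
      refine h.semireg hx ha ha1 hv ((hπ _).1 ?_)
      rw [map_sub, ← hπs, e, sub_self]
    · rintro c hc hc1 _ ⟨v, hv, rfl⟩ e
      rw [hπ]
      have hcv : c • v - v ∈ Z := (hπ _).1 (by rw [map_sub, ← hπs, e, sub_self])
      have hcX : c • v ∈ X := by
        rw [show c • v = (c • v - v) + v by abel]
        exact add_mem (hZX hcv) hv
      have h1 := h.disjoint (fun e' => hc1 (h.inter_bot' hx hc e')) hcX (by rwa [inv_smul_smul])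
      rw [show v = c • v - (c • v - v) by abel]
      exact sub_mem h1 hcv
    · intro c hc hc1
      obtain ⟨a, ha, hl⟩ := hline c hc hc1
      refine ⟨a, ha, ?_⟩
      rintro _ ⟨v, hv, rfl⟩
      obtain ⟨y, hy, e⟩ := hl v hv
      exact ⟨π y, ⟨y, hy, rfl⟩, by rw [hπs, hπs, e]⟩
    · rintro _ ⟨v, hv, rfl⟩ ⟨y, hy, e⟩
      rw [hπ]
      have hvy : y - v ∈ Z := (hπ _).1 (by rw [map_sub, e, sub_self])
      refine hXY v hv ?_
      rw [show v = y - (y - v) by abel]
      exact sub_mem hy (hZY hvy)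
    · intro v
      obtain ⟨v, rfl⟩ := QuotientAddGroup.mk'_surjective Z v
      obtain ⟨a, ha, b, hb, rfl⟩ := hsup v
      exact ⟨π a, ⟨a, ha, rfl⟩, π b, ⟨b, hb, rfl⟩, map_add π a b⟩
    · obtain ⟨n, hn⟩ := h.pA.exists_card_eq
      refine ⟨n, ?_, hn⟩
      by_contra h0
      rw [show n = 0 by omega, pow_zero] at hn
      omega
  obtain ⟨F, iF, iFF, hF, ρ, ψ, hρ, hψ⟩ := S.natural h.prime
  refine ⟨F, iF, iFF, hF, ρ, ψ.toAddMonoidHom.comp π, hρ,
    ψ.surjective.comp (QuotientAddGroup.mk'_surjective Z), fun m => ?_, fun g m => ?_⟩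
  · show ψ (π m) = 0 ↔ _
    rw [map_eq_zero_iff ψ ψ.injective]
    exact hπ m
  · show ψ (π (g • m)) = _
    rw [← hπs, hψ]
    rfl

end Core

end CfsgLib.LocalEven.MinOffender
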